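import Groth.Prelude.Def_ModSite
import Groth.Prelude.Def_CohCx
import Groth.Agent.ModSiteTensor.Colimit
import Groth.Agent.SiteCoh.Basic
import Mathlib.RingTheory.Flat.TorsionFree
import Mathlib.RingTheory.Flat.Equalizer
import Mathlib.Algebra.Homology.DerivedCategory.Ext.EnoughInjectives

/-!
`Hom_O(F, G)` is totally acyclic when `G` is injective.

The key point is that `E ↦ (O ⊗_ℤ E) ⊗_O F` sends monomorphisms of abelian sheaves with torsion
free cokernel to monomorphisms.
-/

set_option backward.isDefEq.respectTransparency false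
set_option linter.style.haveILetI false
set_option linter.unusedSectionVars false
set_option autoImplicit false

universe w v u

open CategoryTheory Category Limits Opposite Abelian TensorProduct MonoidalCategory

namespace Groth.Agent.ModSiteHom

/-! ### Torsion free objects of an abelian category, effaceability of `Ext` -/

section Abstract

variable {A : Type u} [Category.{v} A] [Abelian A]

/-- multiplication by every nonzero natural number is mono -/
def TorsionFree (P : A) : Prop := ∀ n : ℕ, n ≠ 0 → Mono (n • 𝟙 P)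

lemma TorsionFree.of_mono {N P : A} (i : N ⟶ P) [Mono i] (hP : TorsionFree P) : TorsionFree N := by
  intro n hn
  haveI := hP n hn
  have : (n • 𝟙 N) ≫ i = i ≫ (n • 𝟙 P) := by simp
  exact mono_of_mono_fac this

lemma TorsionFree.map {B : Type*} [Category B] [Abelian B] (G : A ⥤ B) [G.Additive]
    [G.PreservesMonomorphisms] {P : A} (hP : TorsionFree P) : TorsionFree (G.obj P) := by
  intro n hn
  haveI := hP n hn
  have : G.map (n • 𝟙 P) = n • 𝟙 (G.obj P) := by rw [Functor.map_nsmul, G.map_id]
  rw [← this]
  infer_instance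

variable [HasExt.{w} A]

lemma exists_epi_killing [EnoughInjectives A] : ∀ (n : ℕ) (X Y : A) (x : Ext X Y (n + 1)),
    ∃ (E : A) (e : E ⟶ X), Epi e ∧ (Ext.mk₀ e).comp x (zero_add _) = 0
  | n, X, Y, x => by
    let S : ShortComplex A := ShortComplex.mk (Injective.ι Y) (cokernel.π (Injective.ι Y)) (cokernel.condition _)
    have hS : S.ShortExact :=
      { exact := ShortComplex.exact_of_g_is_cokernel _ (cokernelIsCokernel (Injective.ι Y))
        mono_f := inferInstanceAs (Mono (Injective.ι Y))
        epi_g := inferInstanceAs (Epi (cokernel.π (Injective.ι Y))) }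
    obtain ⟨y, rfl⟩ := Ext.covariant_sequence_exact₁ X hS x (Ext.eq_zero_of_injective _) rfl
    cases n with
    | zero =>
      obtain ⟨φ, rfl⟩ := (Ext.mk₀_bijective _ _).2 y
      haveI : Epi S.g := hS.epi_g
      refine ⟨pullback φ S.g, pullback.fst φ S.g, inferInstance, ?_⟩
      rw [← Ext.comp_assoc _ _ _ (zero_add 0) rfl (by omega), Ext.mk₀_comp_mk₀, pullback.condition,
        ← Ext.mk₀_comp_mk₀, Ext.comp_assoc _ _ _ (zero_add 0) (zero_add 1) (by omega),
        hS.comp_extClass, Ext.comp_zero]
    | succ m =>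
      obtain ⟨E, e, he, h⟩ := exists_epi_killing m X S.X₃ y
      refine ⟨E, e, he, ?_⟩
      rw [← Ext.comp_assoc _ _ _ (zero_add _) rfl (by omega), h, Ext.zero_comp]

/-- `Ext^{n+1}` out of torsion free objects vanishes as soon as monos with torsion free cokernel split. -/
theorem subsingleton_ext_of_retraction [EnoughInjectives A] {H : A}
    (hcov : ∀ X : A, ∃ (T : A) (π : T ⟶ X), Epi π ∧ TorsionFree T)
    (h : ∀ S : ShortComplex A, S.ShortExact → S.X₁ = H → TorsionFree S.X₃ →
      ∃ r : S.X₂ ⟶ S.X₁, S.f ≫ r = 𝟙 S.X₁) :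
    ∀ (n : ℕ) (P : A), TorsionFree P → Subsingleton (Ext P H (n + 1)) := by
  intro n
  induction n with
  | zero =>
    intro P hP
    let T : ShortComplex A := ShortComplex.mk (Injective.ι H) (cokernel.π (Injective.ι H)) (cokernel.condition _)
    have hT : T.ShortExact :=
      { exact := ShortComplex.exact_of_g_is_cokernel _ (cokernelIsCokernel (Injective.ι H))
        mono_f := inferInstanceAs (Mono (Injective.ι H))
        epi_g := inferInstanceAs (Epi (cokernel.π (Injective.ι H))) }
    haveI : Subsingleton (Ext P T.X₂ 1) :=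
      subsingleton_of_forall_eq 0 fun x => Ext.eq_zero_of_injective x
    refine SiteCoh.subsingleton_ext_one_of_lift hT P fun φ => ?_
    haveI := hT.mono_f
    haveI := hT.epi_g
    let i : T.X₁ ⟶ pullback φ T.g := pullback.lift 0 T.f (by simp)
    have hi : i ≫ pullback.snd φ T.g = T.f := pullback.lift_snd _ _ _
    haveI : Mono i := mono_of_mono_fac hi
    let S : ShortComplex A := ShortComplex.mk i (pullback.fst φ T.g) (pullback.lift_fst _ _ _)
    have hS : S.ShortExact :=
      { exact := by
          refine ShortComplex.exact_of_f_is_kernel _ ?_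
          refine KernelFork.IsLimit.ofι' i (pullback.lift_fst _ _ _) fun {W} k hk => ?_
          have hk' : (k ≫ pullback.snd φ T.g) ≫ T.g = 0 := by
            rw [assoc, ← pullback.condition, ← assoc, hk, zero_comp]
          obtain ⟨l, hl⟩ := KernelFork.IsLimit.lift' hT.fIsKernel _ hk'
          refine ⟨l, pullback.hom_ext ?_ ?_⟩
          · rw [assoc]
            erw [pullback.lift_fst]
            rw [comp_zero, hk]
          · rw [assoc, hi]
            exact hl
        mono_f := inferInstanceAs (Mono i)
        epi_g := inferInstanceAs (Epi (pullback.fst φ T.g)) }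
    obtain ⟨r, hr⟩ := h S hS rfl hP
    let sp := ShortComplex.Splitting.ofExactOfRetraction S hS.exact r hr hS.epi_g
    exact ⟨sp.s ≫ pullback.snd φ T.g, by
      rw [assoc, ← pullback.condition, ← assoc]
      exact (congrArg (· ≫ φ) sp.s_g).trans (id_comp φ)⟩
  | succ n ih =>
    intro P hP
    refine subsingleton_of_forall_eq 0 fun x => ?_
    obtain ⟨E, e, he, hx⟩ := exists_epi_killing (n + 1) P H x
    obtain ⟨T, π, hπ, hT⟩ := hcov E
    let q : T ⟶ P := π ≫ e
    haveI : Epi q := epi_comp π e
    let S : ShortComplex A := ShortComplex.mk (kernel.ι q) q (kernel.condition q)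
    have hS : S.ShortExact :=
      { exact := ShortComplex.exact_of_f_is_kernel _ (kernelIsKernel q)
        mono_f := inferInstanceAs (Mono (kernel.ι q))
        epi_g := inferInstanceAs (Epi q) }
    have hx' : (Ext.mk₀ S.g).comp x (zero_add _) = 0 := by
      change (Ext.mk₀ (π ≫ e)).comp x (zero_add _) = 0
      rw [← Ext.mk₀_comp_mk₀_assoc, hx, Ext.comp_zero]
    obtain ⟨y, rfl⟩ := Ext.contravariant_sequence_exact₃ hS H x hx' (n₀ := n + 1) (by omega)
    haveI : Subsingleton (Ext S.X₁ H (n + 1)) := ih _ (TorsionFree.of_mono (kernel.ι q) hT)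
    rw [Subsingleton.elim y 0, Ext.comp_zero]

end Abstract

/-! ### Torsion free abelian sheaves -/

section Ab

variable {C : Type u} [SmallCategory C] {J : GrothendieckTopology C}

lemma torsionFree_free (K : Cᵒᵖ ⥤ Type u) :
    TorsionFree (K ⋙ AddCommGrpCat.free.{u}) := by
  intro n hn
  haveI : ∀ U, Mono ((n • 𝟙 (K ⋙ AddCommGrpCat.free.{u})).app U) := fun U => by
    rw [AddCommGrpCat.mono_iff_injective]
    intro a b hab
    change n • (show FreeAbelianGroup (K.obj U) from a) = n • (show FreeAbelianGroup (K.obj U) from b) at hab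
    haveI : IsAddTorsionFree (FreeAbelianGroup (K.obj U)) :=
      (FreeAbelianGroup.equivFinsupp (K.obj U)).injective.isAddTorsionFree _
    exact nsmul_right_injective (M := FreeAbelianGroup (K.obj U)) hn hab
  exact NatTrans.mono_of_mono_app _

lemma torsionFree_freeSheaf (K : Cᵒᵖ ⥤ Type u) :
    TorsionFree ((presheafToSheaf J AddCommGrpCat.{u}).obj (K ⋙ AddCommGrpCat.free.{u})) :=
  (torsionFree_free K).map _

lemma exists_epi_torsionFree (X : Sheaf J AddCommGrpCat.{u}) :
    ∃ (T : Sheaf J AddCommGrpCat.{u}) (π : T ⟶ X), Epi π ∧ TorsionFree T := by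
  let c := (AddCommGrpCat.adj.{u}.whiskerRight Cᵒᵖ).counit.app X.obj
  let P : Cᵒᵖ ⥤ AddCommGrpCat.{u} := (X.obj ⋙ forget AddCommGrpCat.{u}) ⋙ AddCommGrpCat.free.{u}
  haveI : ∀ U, Epi (c.app U) := fun U => by
    rw [AddCommGrpCat.epi_iff_surjective]
    intro x
    refine ⟨FreeAbelianGroup.of x, ?_⟩
    exact FreeAbelianGroup.lift_apply_of _ _
  haveI : Epi c := NatTrans.epi_of_epi_app _
  haveI : Epi ((presheafToSheaf J AddCommGrpCat.{u}).map c) :=
    (presheafToSheaf J AddCommGrpCat.{u}).map_epi c
  exact ⟨(presheafToSheaf J _).obj P,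
    (presheafToSheaf J _).map c ≫ (sheafificationAdjunction J AddCommGrpCat.{u}).counit.app X,
    epi_comp _ _, torsionFree_freeSheaf _⟩

/-- sections of a torsion free abelian sheaf form a flat abelian group -/
lemma flat_obj {P : Sheaf J AddCommGrpCat.{u}} (hP : TorsionFree P) (U : Cᵒᵖ) :
    Module.Flat ℤ (P.obj.obj U) := by
  rw [IsDedekindDomain.flat_iff_torsion_eq_bot, eq_bot_iff]
  intro x hx
  obtain ⟨⟨a, ha⟩, hax⟩ := (Submodule.mem_torsion_iff x).mp hx
  have ha' : a ≠ 0 := nonZeroDivisors.ne_zero ha
  have hn : a.natAbs ≠ 0 := Int.natAbs_ne_zero.mpr ha'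
  haveI := hP _ hn
  haveI : Mono ((sheafToPresheaf J AddCommGrpCat.{u}).map (a.natAbs • 𝟙 P)) := inferInstance
  have hmono : Mono (((sheafToPresheaf J AddCommGrpCat.{u}).map (a.natAbs • 𝟙 P)).app U) := inferInstance
  have hinj := (AddCommGrpCat.mono_iff_injective _).mp hmono
  have h0 : a.natAbs • x = 0 := by
    rcases Int.natAbs_eq a with h | h
    · rw [← natCast_zsmul, ← h]
      exact hax
    · rw [← natCast_zsmul, show (a.natAbs : ℤ) = -a by omega, neg_zsmul]
      exact neg_eq_zero.mpr hax
  refine (Submodule.mem_bot ℤ).mpr (hinj ?_)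
  rw [map_zero]
  exact h0

end Ab

/-! ### Extension of scalars `O ⊗_ℤ -` -/

section Ext

/-- presheaves of modules over a sheaf of commutative rings -/
abbrev PMod {C : Type u} [SmallCategory C] {J : GrothendieckTopology C} (O : Sheaf J CommRingCat.{u}) :=
  PresheafOfModules.{u} (O.obj ⋙ forget₂ CommRingCat.{u} RingCat.{u})

variable {C : Type u} [SmallCategory C] {J : GrothendieckTopology C} (O : Sheaf J CommRingCat.{u})


variable (H : Cᵒᵖ ⥤ AddCommGrpCat.{u})

/-- `U ↦ O(U) ⊗_ℤ H(U)` as a presheaf of abelian groups -/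
noncomputable def extPresheaf : Cᵒᵖ ⥤ AddCommGrpCat.{u} where
  obj U := AddCommGrpCat.of ((O.obj.obj U : Type u) ⊗[ℤ] (H.obj U : Type u))
  map {U V} f := AddCommGrpCat.ofHom (TensorProduct.map
    ((O.obj.map f).hom.toAddMonoidHom.toIntLinearMap) ((H.map f).hom.toIntLinearMap)).toAddMonoidHom
  map_id U := by
    ext x
    induction x using TensorProduct.induction_on with
    | zero => exact (map_zero _).trans (map_zero _).symm
    | tmul r h => simp
    | add a b ha hb => exact (map_add _ a b).trans ((congrArg₂ _ ha hb).trans (map_add _ a b).symm)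
  map_comp f g := by
    ext x
    induction x using TensorProduct.induction_on with
    | zero => exact (map_zero _).trans (map_zero _).symm
    | tmul r h => simp
    | add a b ha hb => exact (map_add _ a b).trans ((congrArg₂ _ ha hb).trans (map_add _ a b).symm)

noncomputable instance (U : Cᵒᵖ) :
    Module ((O.obj ⋙ forget₂ CommRingCat.{u} RingCat.{u}).obj U) ((extPresheaf O H).obj U) :=
  inferInstanceAs (Module (O.obj.obj U : Type u) ((O.obj.obj U : Type u) ⊗[ℤ] (H.obj U : Type u)))

/-- `O ⊗_ℤ H` -/
noncomputable def extPM : PMod O :=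
  PresheafOfModules.ofPresheaf (extPresheaf O H) fun U V f r m => by
    change (O.obj.obj U : Type u) ⊗[ℤ] (H.obj U : Type u) at m
    change (O.obj.obj U : Type u) at r
    let φ := TensorProduct.map
      ((O.obj.map f).hom.toAddMonoidHom.toIntLinearMap) ((H.map f).hom.toIntLinearMap)
    change φ (r • m) = (O.obj.map f).hom r • φ m
    induction m using TensorProduct.induction_on with
    | zero => rw [smul_zero, map_zero, smul_zero]
    | tmul a h =>
      change φ ((r * a) ⊗ₜ[ℤ] h) = ((O.obj.map f).hom r * (O.obj.map f).hom a) ⊗ₜ[ℤ] _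
      exact congrArg (fun z => z ⊗ₜ[ℤ] _) (map_mul (O.obj.map f).hom r a)
    | add a b ha hb => rw [smul_add, map_add, map_add, ha, hb, smul_add]

variable {O H} {H' : Cᵒᵖ ⥤ AddCommGrpCat.{u}}

variable (O) in
/-- functoriality of `O ⊗_ℤ -` -/
noncomputable def extMap (t : H ⟶ H') : extPM O H ⟶ extPM O H' :=
  PresheafOfModules.homMk
    { app := fun U => AddCommGrpCat.ofHom
        (LinearMap.lTensor (O.obj.obj U : Type u) (t.app U).hom.toIntLinearMap).toAddMonoidHom
      naturality := fun U V f => by
        ext x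
        change (O.obj.obj U : Type u) ⊗[ℤ] (H.obj U : Type u) at x
        induction x using TensorProduct.induction_on with
        | zero => exact (map_zero _).trans (map_zero _).symm
        | tmul r h =>
          exact congrArg (fun z => (O.obj.map f).hom r ⊗ₜ[ℤ] z) (ConcreteCategory.congr_hom (t.naturality f) h)
        | add a b ha hb => exact (map_add _ a b).trans ((congrArg₂ _ ha hb).trans (map_add _ a b).symm) }
    fun U r m => by
      change (O.obj.obj U : Type u) ⊗[ℤ] (H.obj U : Type u) at m
      change (O.obj.obj U : Type u) at r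
      let φ := LinearMap.lTensor (O.obj.obj U : Type u) (t.app U).hom.toIntLinearMap
      change φ (r • m) = r • φ m
      induction m using TensorProduct.induction_on with
      | zero => rw [smul_zero, map_zero, smul_zero]
      | tmul a h => rfl
      | add a b ha hb => rw [smul_add, map_add, map_add, ha, hb, smul_add]

/-- `h ↦ 1 ⊗ h` -/
noncomputable def extUnit : H ⟶ (extPM O H).presheaf where
  app U := AddCommGrpCat.ofHom
    (TensorProduct.mk ℤ (O.obj.obj U : Type u) (H.obj U : Type u) 1).toAddMonoidHom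
  naturality U V f := by
    ext h
    exact (congrArg (fun z => z ⊗ₜ[ℤ] _) (map_one (O.obj.map f).hom)).symm

lemma extUnit_naturality (t : H ⟶ H') :
    t ≫ extUnit (O := O) = extUnit ≫ (PresheafOfModules.toPresheaf _).map (extMap O t) := by
  ext U h
  rfl

/-- the `O`-linear map attached to an additive one -/
noncomputable def extDesc {M : PMod O} (t : H ⟶ M.presheaf) : extPM O H ⟶ M :=
  letI : ∀ U, Module (O.obj.obj U : Type u) (M.obj U) := fun U => (M.obj U).isModule
  let L : ∀ U, ((O.obj.obj U : Type u) ⊗[ℤ] (H.obj U : Type u)) →ₗ[(O.obj.obj U : Type u)] (M.obj U) :=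
    fun U => TensorProduct.AlgebraTensorModule.lift
      (LinearMap.toSpanSingleton (O.obj.obj U : Type u) _ (t.app U).hom.toIntLinearMap)
  PresheafOfModules.homMk
    { app := fun U => AddCommGrpCat.ofHom (L U).toAddMonoidHom
      naturality := fun U V f => by
        ext x
        change (O.obj.obj U : Type u) ⊗[ℤ] (H.obj U : Type u) at x
        induction x using TensorProduct.induction_on with
        | zero => exact (map_zero _).trans (map_zero _).symm
        | tmul r h =>
          letI : Module (O.obj.obj V : Type u) (M.presheaf.obj V) := (M.obj V).isModule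
          exact ((congrArg (fun z : M.presheaf.obj V => (O.obj.map f).hom r • z)
            (ConcreteCategory.congr_hom (t.naturality f) h)).trans (M.map_smul f r _).symm)
        | add a b ha hb => exact (map_add _ a b).trans ((congrArg₂ _ ha hb).trans (map_add _ a b).symm) }
    fun U r m => (L U).map_smul r m

lemma extUnit_extDesc {M : PMod O} (t : H ⟶ M.presheaf) :
    extUnit ≫ (PresheafOfModules.toPresheaf _).map (extDesc (O := O) t) = t := by
  ext U h
  letI : Module (O.obj.obj U : Type u) (M.presheaf.obj U) := (M.obj U).isModule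
  exact one_smul (O.obj.obj U : Type u) (show M.presheaf.obj U from t.app U h)

variable (O) in
/-- tensoring the extension of scalars of a mono with flat cokernel stays mono -/
lemma mono_whiskerRight_extMap {H'' : Cᵒᵖ ⥤ AddCommGrpCat.{u}} (t : H ⟶ H') (g : H' ⟶ H'') (N : PMod O)
    (hinj : ∀ U, Function.Injective (t.app U))
    (hex : ∀ U, Function.Exact (t.app U) (g.app U))
    (hflat : ∀ U, Module.Flat ℤ (H''.obj U)) :
    ∀ U, Function.Injective ((extMap O t ▷ N).app U) := by
  intro U
  letI : Module (O.obj.obj U : Type u) (N.obj U) := (N.obj U).isModule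
  let g' := (g.app U).hom.toIntLinearMap
  let t' := (t.app U).hom.toIntLinearMap
  haveI : Module.Flat ℤ (H''.obj U) := hflat U
  haveI : Module.Flat ℤ (LinearMap.range g') := by
    rw [IsDedekindDomain.flat_iff_torsion_eq_bot, eq_bot_iff]
    rintro ⟨x, hx'⟩ hx
    obtain ⟨a, ha⟩ := (Submodule.mem_torsion_iff _).mp hx
    refine (Submodule.mem_bot ℤ).mpr (Subtype.ext ?_)
    have : x ∈ Submodule.torsion ℤ (H''.obj U) :=
      (Submodule.mem_torsion_iff x).mpr ⟨a, congrArg Subtype.val ha⟩
    rw [Module.Flat.torsion_eq_bot] at this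
    exact (Submodule.mem_bot ℤ).mp this
  have hex' : Function.Exact t' g'.rangeRestrict := fun x =>
    ⟨fun hx => (hex U x).mp (congrArg Subtype.val hx), fun hx => Subtype.ext ((hex U x).mpr hx)⟩
  have key := LinearMap.lTensor_injective_of_exact_of_flat g'.rangeRestrict g'.surjective_rangeRestrict
    t' (hinj U) hex' (N.obj U : Type u)
  let R := (O.obj.obj U : Type u)
  let e : ∀ (X : Cᵒᵖ ⥤ AddCommGrpCat.{u}), ((R ⊗[ℤ] (X.obj U : Type u)) ⊗[R] (N.obj U : Type u)) ≃ₗ[R]
      ((N.obj U : Type u) ⊗[ℤ] (X.obj U : Type u)) := fun X =>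
    (TensorProduct.comm R _ _).trans
      (TensorProduct.AlgebraTensorModule.cancelBaseChange ℤ R R (N.obj U : Type u) (X.obj U : Type u))
  have sq : ∀ z : (R ⊗[ℤ] (H.obj U : Type u)) ⊗[R] (N.obj U : Type u),
      e H' ((extMap O t ▷ N).app U z) = LinearMap.lTensor (N.obj U : Type u) t' (e H z) := by
    intro z
    induction z using TensorProduct.induction_on with
    | zero =>
      exact ((congrArg _ (map_zero _)).trans (map_zero _)).trans
        ((congrArg _ (map_zero _)).trans (map_zero _)).symm
    | tmul a n =>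
      induction a using TensorProduct.induction_on with
      | zero =>
        rw [TensorProduct.zero_tmul]
        exact ((congrArg _ (map_zero _)).trans (map_zero _)).trans
          ((congrArg _ (map_zero _)).trans (map_zero _)).symm
      | tmul r h => rfl
      | add a b ha hb =>
        rw [TensorProduct.add_tmul]
        exact ((congrArg _ (map_add _ _ _)).trans (map_add _ _ _)).trans
          ((congrArg₂ _ ha hb).trans ((congrArg _ (map_add _ _ _)).trans (map_add _ _ _)).symm)
    | add a b ha hb =>
      exact ((congrArg _ (map_add _ _ _)).trans (map_add _ _ _)).trans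
        ((congrArg₂ _ ha hb).trans ((congrArg _ (map_add _ _ _)).trans (map_add _ _ _)).symm)
  intro z w hzw
  exact (e H).injective (key (((sq z).symm.trans (congrArg _ hzw)).trans (sq w)))

end Ext

/-! ### The main theorem -/

section Main

variable {C : Type u} [SmallCategory C] {J : GrothendieckTopology C} {O : Sheaf J CommRingCat.{u}}
  (F G : ModSite.Mod O) [ModSite.HasSheafHom F] [Injective G]


/-- maps into the internal hom extend along presheaf maps `b` such that `b ▷ F` is mono -/
lemma exists_extension {P Q : PMod O} (b : P ⟶ Q)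
    (hb : Mono (b ▷ (SheafOfModules.forget (ModSite.ringSh O)).obj F))
    (a : P ⟶ (SheafOfModules.forget (ModSite.ringSh O)).obj ((ModSite.sheafHom F).obj G)) :
    ∃ a' : Q ⟶ (SheafOfModules.forget (ModSite.ringSh O)).obj ((ModSite.sheafHom F).obj G), b ≫ a' = a := by
  let sadj := PresheafOfModules.sheafificationAdjunction.{u} (R := ModSite.ringSh O)
    (𝟙 (ModSite.ringSh O).obj)
  let F' : PMod O := (SheafOfModules.forget (ModSite.ringSh O)).obj F
  let L : PMod O ⥤ ModSite.Mod O := ModSite.sheafify O
  let T := (ModSite.tensorBi O).flip.obj F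
  let tadj := Adjunction.ofIsLeftAdjoint T
  let G' : ModSite.Mod O := (ModSite.sheafHom F).obj G
  let u : ∀ X : PMod O, L.obj (X ⊗ F') ⟶ T.obj (L.obj X) := fun X => L.map (ModSiteTensor.η O X ▷ F')
  have hu : ∀ X, IsIso (u X) := fun X =>
    @ModSiteTensor.isIso_sheafify_map_whiskerRight _ _ _ _ _ _ (ModSiteTensor.η O X)
      (ModSiteTensor.unit_locallyInjective O X) (ModSiteTensor.unit_locallySurjective O X) F'
  let fP : PMod O := (SheafOfModules.forget (ModSite.ringSh O)).obj (L.obj P)
  let fQ : PMod O := (SheafOfModules.forget (ModSite.ringSh O)).obj (L.obj Q)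
  let fb : fP ⟶ fQ := (SheafOfModules.forget (ModSite.ringSh O)).map (L.map b)
  have hnat : u P ≫ T.map (L.map b) = L.map (b ▷ F') ≫ u Q := by
    change L.map ((show P ⟶ fP from ModSiteTensor.η O P) ▷ F') ≫ L.map (fb ▷ F') =
      L.map (b ▷ F') ≫ L.map ((show Q ⟶ fQ from ModSiteTensor.η O Q) ▷ F')
    rw [← L.map_comp, ← L.map_comp, ← comp_whiskerRight, ← comp_whiskerRight]
    congr 2
    exact (sadj.unit.naturality b).symm
  haveI : PreservesFiniteLimits L := inferInstanceAs
    (PreservesFiniteLimits (PresheafOfModules.sheafification.{u} (𝟙 (ModSite.ringSh O).obj)))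
  haveI := hb
  haveI : Mono (L.map (b ▷ F')) := L.map_mono _
  haveI := hu P
  haveI := hu Q
  haveI : Mono (T.map (L.map b)) := by
    have : T.map (L.map b) = inv (u P) ≫ L.map (b ▷ F') ≫ u Q := by rw [← hnat, IsIso.inv_hom_id_assoc]
    rw [this]
    infer_instance
  let a₁ : L.obj P ⟶ G' := (sadj.homEquiv P G').symm a
  let a₂ : T.obj (L.obj P) ⟶ G := (tadj.homEquiv (L.obj P) G).symm a₁
  let c₂ : T.obj (L.obj Q) ⟶ G := Injective.factorThru a₂ (T.map (L.map b))
  have hc₂ : T.map (L.map b) ≫ c₂ = a₂ := Injective.comp_factorThru _ _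
  let c₁ : L.obj Q ⟶ G' := tadj.homEquiv (L.obj Q) G c₂
  have hc₁ : L.map b ≫ c₁ = a₁ := by
    rw [← Adjunction.homEquiv_naturality_left, hc₂]
    exact (tadj.homEquiv _ _).apply_symm_apply a₁
  refine ⟨sadj.homEquiv Q G' c₁, ?_⟩
  rw [← Adjunction.homEquiv_naturality_left]
  erw [hc₁]
  exact (sadj.homEquiv P G').apply_symm_apply a

theorem exists_retraction (S : ShortComplex (Sheaf J AddCommGrpCat.{u})) (hS : S.ShortExact)
    (h₁ : S.X₁ = ModSite.toAb ((ModSite.sheafHom F).obj G)) (h₃ : TorsionFree S.X₃) :
    ∃ r : S.X₂ ⟶ S.X₁, S.f ≫ r = 𝟙 S.X₁ := by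
  haveI := hS.mono_f
  let G'' : PMod O := (SheafOfModules.forget (ModSite.ringSh O)).obj ((ModSite.sheafHom F).obj G)
  let i : S.X₁.obj ⟶ G''.presheaf := (eqToHom h₁).hom
  have hinj : ∀ U, Function.Injective (S.f.hom.app U) := fun U => by
    haveI : Mono ((sheafToPresheaf J AddCommGrpCat.{u}).map S.f) := inferInstance
    exact (AddCommGrpCat.mono_iff_injective _).mp
      (inferInstanceAs (Mono (((sheafToPresheaf J AddCommGrpCat.{u}).map S.f).app U)))
  have hex : ∀ U, Function.Exact (S.f.hom.app U) (S.g.hom.app U) := fun U => by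
    haveI := hS.mono_f
    let Ev := sheafToPresheaf J AddCommGrpCat.{u} ⋙ (evaluation _ _).obj U
    haveI : (S.map Ev).Exact → True := fun _ => trivial
    have : (S.map Ev).Exact := ShortComplex.exact_of_f_is_kernel _
      (KernelFork.mapIsLimit _ hS.fIsKernel Ev)
    exact (ShortComplex.ab_exact_iff_function_exact (S.map Ev)).mp this
  have hm : Mono (extMap O S.f.hom ▷ (SheafOfModules.forget (ModSite.ringSh O)).obj F) := by
    have hi := mono_whiskerRight_extMap O S.f.hom S.g.hom
      ((SheafOfModules.forget (ModSite.ringSh O)).obj F) hinj hex (flat_obj h₃)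
    exact ⟨fun a b hab => PresheafOfModules.hom_ext fun U => by
      ext x
      exact hi U (ConcreteCategory.congr_hom (congrArg (fun m => PresheafOfModules.Hom.app m U) hab) x)⟩
  obtain ⟨a', ha'⟩ := exists_extension F G (extMap O S.f.hom) hm (extDesc (O := O) i)
  let r' : S.X₂.obj ⟶ G''.presheaf := extUnit ≫ (PresheafOfModules.toPresheaf _).map a'
  have hr' : S.f.hom ≫ r' = i := by
    rw [← assoc, extUnit_naturality, assoc, ← Functor.map_comp, ha', extUnit_extDesc]
  refine ⟨(ObjectProperty.homMk r' : S.X₂ ⟶ ModSite.toAb ((ModSite.sheafHom F).obj G)) ≫ eqToHom h₁.symm, ?_⟩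
  rw [← assoc, ← cancel_mono (eqToHom h₁), assoc, assoc, eqToHom_trans, eqToHom_refl, comp_id, id_comp]
  exact Sheaf.hom_ext hr'

theorem isTotallyAcyclic_sheafHom_injective :
    CohCx.IsTotallyAcyclic (ModSite.toAb ((ModSite.sheafHom F).obj G)) := fun K p =>
  subsingleton_ext_of_retraction exists_epi_torsionFree (fun S hS h₁ h₃ => exists_retraction F G S hS h₁ h₃)
    p _ (torsionFree_freeSheaf K.obj)

end Main

end Groth.Agent.ModSiteHom
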